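import Mathlib.GroupTheory.SpecificGroups.Cyclic
import Mathlib.GroupTheory.Index
import Mathlib.GroupTheory.PGroup
import Mathlib.GroupTheory.Subgroup.Centralizer
import Mathlib.RingTheory.ZMod.UnitsCyclic

/-!
# Groups acting on a cyclic `p`-group by conjugation, of order prime to `p` modulo the centralizer
(helper641)

* `mem_centralizer_of_fixes`: if `T ≤ N_G(P)`, `P` a cyclic `p`-group, `C_G(P) ≤ T` of index prime to `p`,
  then an element of `T` fixing an element `x ≠ 1` of `P` centralizes `P`;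
* `isCyclic_quotient`, `relIndex_dvd`: `T / C_G(P)` is cyclic of order dividing `p - 1`.
-/

set_option autoImplicit false

namespace Cfsg.Agent.H641

/-- If `r ≡ 1` modulo `p` and `r ^ m ≡ 1` modulo `p ^ n` with `m` prime to `p`, then `r ≡ 1` modulo
`p ^ n`. -/
theorem int_modEq_one {p : ℕ} (hp : p.Prime) {n m : ℕ} {r : ℤ} (h1 : (p : ℤ) ∣ r - 1)
    (hm : ¬ p ∣ m) (h2 : (p : ℤ) ^ n ∣ r ^ m - 1) : (p : ℤ) ^ n ∣ r - 1 := by
  have h3 : (∑ i ∈ Finset.range m, r ^ i) * (r - 1) = r ^ m - 1 := geom_sum_mul r m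
  have h4 : IsCoprime ((p : ℤ) ^ n) (∑ i ∈ Finset.range m, r ^ i) := by
    apply IsCoprime.pow_left
    have hp' : Prime (p : ℤ) := Nat.prime_iff_prime_int.1 hp
    refine hp'.coprime_iff_not_dvd.2 fun h5 => hm ?_
    have h6 : (p : ℤ) ∣ (∑ i ∈ Finset.range m, r ^ i) - m := by
      have h7 : (∑ i ∈ Finset.range m, r ^ i) - (m : ℤ) =
          ∑ i ∈ Finset.range m, (r ^ i - 1) := by
        rw [Finset.sum_sub_distrib, Finset.sum_const, Finset.card_range, nsmul_eq_mul, mul_one]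
      rw [h7]
      refine Finset.dvd_sum fun i _ => h1.trans ?_
      simpa using sub_dvd_pow_sub_pow r 1 i
    have h8 : (p : ℤ) ∣ (m : ℤ) := by
      have := dvd_sub h5 h6
      simpa using this
    exact_mod_cast h8
  rw [← h3] at h2
  exact h4.dvd_of_dvd_mul_left h2

variable {G : Type*} [Group G]

/-- An element normalizing the cyclic `p`-group `P`, with a power of exponent prime to `p` centralizing `P`,
and fixing a nontrivial element of `P`, centralizes `P`. -/
theorem mem_centralizer_of_fixes {p : ℕ} (hp : p.Prime) {P : Subgroup G} (hP : IsPGroup p P)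
    (hcyc : IsCyclic P) {g : G} (hg : g ∈ Subgroup.normalizer (P : Set G)) {m : ℕ}
    (hm : ¬ p ∣ m) (hgm : g ^ m ∈ Subgroup.centralizer (P : Set G)) {x : G} (hx : x ∈ P)
    (hx1 : x ≠ 1) (hgx : g * x * g⁻¹ = x) : g ∈ Subgroup.centralizer (P : Set G) := by
  obtain ⟨⟨u, hu⟩, hgen⟩ := hcyc.exists_generator
  have hgen' : ∀ y ∈ P, ∃ k : ℤ, u ^ k = y := fun y hy => by
    obtain ⟨k, hk⟩ := Subgroup.mem_zpowers_iff.1 (hgen ⟨y, hy⟩)
    exact ⟨k, by simpa using congrArg Subtype.val hk⟩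
  obtain ⟨n, hn⟩ : ∃ n : ℕ, orderOf u = p ^ n := by
    have : Fact p.Prime := ⟨hp⟩
    obtain ⟨n, hn⟩ := hP ⟨u, hu⟩
    have h1 : u ^ p ^ n = 1 := by simpa using congrArg Subtype.val hn
    obtain ⟨k, -, hk⟩ := (Nat.dvd_prime_pow hp).1 (orderOf_dvd_of_pow_eq_one h1)
    exact ⟨k, hk⟩
  obtain ⟨r, hr⟩ := hgen' (g * u * g⁻¹) ((Subgroup.mem_normalizer_iff.1 hg u).1 hu)
  -- conjugation acts as `r`-th power
  have hact : ∀ k : ℤ, g * u ^ k * g⁻¹ = u ^ (r * k) := fun k => by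
    rw [zpow_mul, hr]
    exact (conj_zpow (a := g) (b := u) (i := k)).symm
  have hpow : ∀ j : ℕ, g ^ j * u * (g ^ j)⁻¹ = u ^ (r ^ j) := by
    intro j
    induction j with
    | zero => simp
    | succ j ih =>
      have h1 : g ^ (j + 1) * u * (g ^ (j + 1))⁻¹ = g * (g ^ j * u * (g ^ j)⁻¹) * g⁻¹ := by
        rw [pow_succ', mul_inv_rev]
        group
      rw [h1, ih, hact, pow_succ']
  have h2 : (p : ℤ) ^ n ∣ r ^ m - 1 := by
    have h3 : u ^ (r ^ m) = u := by
      rw [← hpow m]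
      have := (Subgroup.mem_centralizer_iff.1 hgm) u hu
      rw [← this, mul_inv_cancel_right]
    have h4 : u ^ (r ^ m - 1) = 1 := by
      rw [zpow_sub, h3, zpow_one, mul_inv_cancel]
    have h5 := orderOf_dvd_iff_zpow_eq_one.2 h4
    rw [hn] at h5
    exact_mod_cast h5
  have h1 : (p : ℤ) ∣ r - 1 := by
    obtain ⟨k, hk⟩ := hgen' x hx
    have h3 : u ^ ((r - 1) * k) = 1 := by
      have h4 := hact k
      rw [hk, hgx] at h4
      rw [sub_mul, one_mul, zpow_sub, ← h4, hk, mul_inv_cancel]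
    have h5 := orderOf_dvd_iff_zpow_eq_one.2 h3
    rw [hn] at h5
    by_contra h6
    have hp' : Prime (p : ℤ) := Nat.prime_iff_prime_int.1 hp
    have h7 : IsCoprime ((p : ℤ) ^ n) (r - 1) :=
      IsCoprime.pow_left ((hp'.coprime_iff_not_dvd).2 h6)
    have h8 : ((p ^ n : ℕ) : ℤ) ∣ k := by
      push_cast at h5 ⊢
      exact h7.dvd_of_dvd_mul_left h5
    apply hx1
    rw [← hk, ← orderOf_dvd_iff_zpow_eq_one, hn]
    exact h8
  have h3 := int_modEq_one hp h1 hm h2
  have h4 : u ^ (r - 1) = 1 := by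
    rw [← orderOf_dvd_iff_zpow_eq_one, hn]
    exact_mod_cast h3
  have h5 : g * u * g⁻¹ = u := by
    rw [← hr]
    have : u ^ r = u ^ (r - 1) * u := by
      rw [← zpow_add_one, sub_add_cancel]
    rw [this, h4, one_mul]
  rw [Subgroup.mem_centralizer_iff]
  intro y hy
  obtain ⟨k, hk⟩ := hgen' y hy
  have h6 : g * u ^ k * g⁻¹ = u ^ k := by
    rw [← conj_zpow, h5]
  rw [← hk]
  conv_lhs => rw [← h6]
  rw [inv_mul_cancel_right]


/-- `T` normalizes the cyclic `p`-group `P` and contains `C_G(P)` with index prime to `p`; an element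
of `T` fixing a nontrivial element of `P` centralizes `P`. -/
theorem mem_centralizer_of_relIndex {p : ℕ} (hp : p.Prime) {P T : Subgroup G} (hP : IsPGroup p P)
    (hcyc : IsCyclic P) (hT : T ≤ Subgroup.normalizer (P : Set G))
    (hCT : Subgroup.centralizer (P : Set G) ≤ T)
    (hm : ¬ p ∣ (Subgroup.centralizer (P : Set G)).relIndex T) {g : G} (hg : g ∈ T) {x : G}
    (hx : x ∈ P) (hx1 : x ≠ 1) (hgx : g * x * g⁻¹ = x) :
    g ∈ Subgroup.centralizer (P : Set G) := by
  have hnorm : ((Subgroup.centralizer (P : Set G)).subgroupOf T).Normal := by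
    refine ⟨fun a ha t => ?_⟩
    rw [Subgroup.mem_subgroupOf] at ha ⊢
    rw [Subgroup.mem_centralizer_iff] at ha ⊢
    intro y hy
    have h1 : (t : G)⁻¹ * y * t ∈ P := (Subgroup.mem_normalizer_iff''.1 (hT t.2) y).1 hy
    have h2 := ha _ h1
    push_cast
    calc y * ((t : G) * a * (t : G)⁻¹) = t * ((t : G)⁻¹ * y * t * a) * (t : G)⁻¹ := by group
      _ = t * (a * ((t : G)⁻¹ * y * t)) * (t : G)⁻¹ := by rw [h2]
      _ = (t : G) * a * (t : G)⁻¹ * y := by group
  have h1 := Subgroup.pow_index_mem ((Subgroup.centralizer (P : Set G)).subgroupOf T) ⟨g, hg⟩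
  rw [Subgroup.mem_subgroupOf] at h1
  exact mem_centralizer_of_fixes hp hP hcyc (hT hg) hm h1 hx hx1 hgx

end Cfsg.Agent.H641
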