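import Cfsg.Agent.H649.AbelLocal

/-!
# Blocks of centralizers below a maximal pair with abelian subgroup and free action (helper641)
-/

set_option autoImplicit false
set_option linter.unusedSectionVars false

open Cfsg

namespace Cfsg.Agent.H641

open Cfsg.Agent.H644 Cfsg.Agent.Blocks.Local Cfsg.Agent.H651 Cfsg.Agent.H649

universe u

variable {p : ℕ} [Fact p.Prime] {M : Ideal AlgInt} {G : Type u} [Group G] [Finite G]

/-- Let `(P, e)` be a maximal Brauer pair of `B` with `P` abelian and `N_G(P, e) / C_G(P)` acting freely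
on the nontrivial elements of `P`.  Then for `1 ≠ Q ≤ P` the block `f` of `C_G(Q)` with
`(Q, f) ≤ (P, e)` is nilpotent. -/
theorem isNilpotentBlock_of_free (hM : IsPModular p M) {B : Set (IrrCharacter G)} {P : Subgroup G}
    {e : Set (IrrCharacter (Subgroup.centralizer (P : Set G)))}
    (hmax : IsMaximalBrauerPair p M B P e) (hab : ∀ x ∈ P, ∀ y ∈ P, x * y = y * x)
    (hfree : ∀ t : G, conjIdx t ⟨P, e⟩ = ⟨P, e⟩ → ∀ u ∈ P, u ≠ 1 → t * u * t⁻¹ = u →
      t ∈ Subgroup.centralizer (P : Set G))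
    {Q : Subgroup G} (hQ1 : Q ≠ ⊥) {f : Set (IrrCharacter (Subgroup.centralizer (Q : Set G)))}
    (hle : SubpairLE p M Q f P e) : IsNilpotentBlock p M f := by
  have hp : M.IsPrime := isPrime_of_isPModular hM
  have := Fintype.ofFinite G
  have hQf : IsBrauerPairOf p M B Q f := (isBrauerPairOf_iff_of_subpairLE hM hle).1 hmax.1
  refine ⟨hQf.1.2, fun R h hRh x hxN hxS _ => ?_⟩
  have h1 : conjIdx x ⟨R, h⟩ = ⟨R, h⟩ := (conjIdx_eq_iff hRh.1.2 x).2 ⟨hxN, hxS⟩
  have h2 : conjIdx (x : G) (locIdx Q ⟨R, h⟩) = locIdx Q ⟨R, h⟩ := by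
    rw [conjIdx_locIdx, h1]
  have hn : IsNormalSubpair p M Q f (locSub Q R) (locBlk Q R h) :=
    (isNormalSubpair_locBlk_iff hQf.1.1 hQf.1.2 hRh.1.1).2 hRh
  have hB : IsBrauerPairOf p M B (locSub Q R) (locBlk Q R h) :=
    isBrauerPairOf_of_isNormalSubpair hM hn hQf
  obtain ⟨y, hy⟩ := exists_conj_subpairLE hM hmax hB
  -- conjugate everything by `y`
  have h3 : conjIdx (y * x * y⁻¹) (conjIdx y ⟨locSub Q R, locBlk Q R h⟩) =
      conjIdx y ⟨locSub Q R, locBlk Q R h⟩ := by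
    rw [conjIdx_conjIdx, inv_mul_cancel_right, ← conjIdx_conjIdx]
    congr 1
  rw [conjIdx_mk y] at h3
  obtain ⟨t, ht, -, c, hc, htc⟩ := exists_mul_of_abelian hM hmax hab hy h3
  have hSP : (locSub Q R).map (MulAut.conj y).toMonoidHom ≤ P := SubpairLE.le hy
  obtain ⟨u, huQ, hu1⟩ : ∃ u ∈ Q, u ≠ 1 := by
    obtain ⟨a, ha⟩ := Subgroup.ne_bot_iff_exists_ne_one.1 hQ1
    exact ⟨a, a.2, fun h' => ha (Subtype.ext h')⟩
  have huS : y * u * y⁻¹ ∈ (locSub Q R).map (MulAut.conj y).toMonoidHom :=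
    ⟨u, le_locSub Q R huQ, by simp⟩
  have hxu : (x : G) * u = u * x := ((Subgroup.mem_centralizer_iff.1 x.2) u huQ).symm
  have htu : t * (y * u * y⁻¹) * t⁻¹ = y * u * y⁻¹ := by
    have h4 : t = y * x * y⁻¹ * c⁻¹ := by rw [htc, mul_inv_cancel_right]
    have h5 : c⁻¹ * (y * u * y⁻¹) = (y * u * y⁻¹) * c⁻¹ :=
      ((Subgroup.mem_centralizer_iff.1 (inv_mem hc)) _ huS).symm
    calc t * (y * u * y⁻¹) * t⁻¹ = y * x * y⁻¹ * (c⁻¹ * (y * u * y⁻¹)) * c * (y * x * y⁻¹)⁻¹ := by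
            rw [h4]; group
      _ = y * (x * u) * y⁻¹ * (y * x * y⁻¹)⁻¹ := by rw [h5]; group
      _ = y * u * y⁻¹ := by rw [hxu]; group
  have htP : t ∈ Subgroup.centralizer (P : Set G) :=
    hfree t ht _ (hSP huS) (fun h' => hu1 (by
      have := conj_eq_one_iff.1 h'
      exact this)) htu
  have hxS' : y * x * y⁻¹ ∈ Subgroup.centralizer
      (((locSub Q R).map (MulAut.conj y).toMonoidHom : Subgroup G) : Set G) := by
    rw [htc]
    exact mul_mem (centralizer_mono hSP htP) hc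
  rw [Subgroup.mem_centralizer_iff]
  intro r hr
  apply Subtype.ext
  have h6 := (Subgroup.mem_centralizer_iff.1 hxS') (y * (r : G) * y⁻¹)
    ⟨(r : G), coe_mem_locSub hr, by simp⟩
  have h7 : y * ((r : G) * x) * y⁻¹ = y * ((x : G) * r) * y⁻¹ := by
    calc y * ((r : G) * x) * y⁻¹ = y * (r : G) * y⁻¹ * (y * x * y⁻¹) := by group
      _ = y * x * y⁻¹ * (y * (r : G) * y⁻¹) := h6
      _ = _ := by group
  exact mul_left_cancel (mul_right_cancel h7)

omit [Finite G] in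
/-- An element normalizing the cyclic subgroup `P` acts on it as a power map. -/
theorem exists_zpow_of_normalizes {P : Subgroup G} (hcyc : IsCyclic P) {g : G}
    (hg : g ∈ Subgroup.normalizer (P : Set G)) : ∃ r : ℤ, ∀ y ∈ P, g * y * g⁻¹ = y ^ r := by
  obtain ⟨⟨u, hu⟩, hgen⟩ := hcyc.exists_generator
  have hgen' : ∀ y ∈ P, ∃ k : ℤ, u ^ k = y := fun y hy => by
    obtain ⟨k, hk⟩ := Subgroup.mem_zpowers_iff.1 (hgen ⟨y, hy⟩)
    exact ⟨k, by simpa using congrArg Subtype.val hk⟩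
  obtain ⟨r, hr⟩ := hgen' (g * u * g⁻¹) ((Subgroup.mem_normalizer_iff.1 hg u).1 hu)
  refine ⟨r, fun y hy => ?_⟩
  obtain ⟨k, rfl⟩ := hgen' y hy
  rw [← conj_zpow, ← hr, ← zpow_mul, ← zpow_mul, mul_comm]

omit [Finite G] in
/-- The normalizer of a cyclic subgroup normalizes all its subgroups. -/
theorem normalizer_le_of_isCyclic {P Q : Subgroup G} (hcyc : IsCyclic P) (hQP : Q ≤ P) :
    Subgroup.normalizer (P : Set G) ≤ Subgroup.normalizer (Q : Set G) := by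
  intro g hg
  rw [Subgroup.mem_normalizer_iff]
  intro y
  obtain ⟨r, hr⟩ := exists_zpow_of_normalizes hcyc hg
  obtain ⟨s, hs⟩ := exists_zpow_of_normalizes hcyc (inv_mem hg)
  constructor
  · intro hy
    rw [hr y (hQP hy)]
    exact Subgroup.zpow_mem _ hy r
  · intro hy
    have h1 := hs _ (hQP hy)
    have h2 : g⁻¹ * (g * y * g⁻¹) * g⁻¹⁻¹ = y := by group
    rw [h2] at h1
    rw [h1]
    exact Subgroup.zpow_mem _ hy s

/-- The stabilizer of `(P, e)` stabilizes the pairs `(Q, f) ≤ (P, e)` whose subgroup it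
normalizes. -/
theorem conjIdx_eq_of_le (hM : IsPModular p M) {P Q : Subgroup G}
    {e : Set (IrrCharacter (Subgroup.centralizer (P : Set G)))}
    {f : Set (IrrCharacter (Subgroup.centralizer (Q : Set G)))} (hPe : IsBrauerPair p M P e)
    (hle : SubpairLE p M Q f P e) {t : G} (ht : conjIdx t ⟨P, e⟩ = ⟨P, e⟩)
    (htQ : t ∈ Subgroup.normalizer (Q : Set G)) : conjIdx t ⟨Q, f⟩ = ⟨Q, f⟩ := by
  have h4 : LEIdx p M (conjIdx t ⟨Q, f⟩) (conjIdx t ⟨P, e⟩) :=
    (leIdx_conjIdx_iff (p := p) (M := M) t (a := ⟨Q, f⟩) (b := ⟨P, e⟩)).2 hle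
  rw [ht] at h4
  have h5 : (conjIdx t ⟨Q, f⟩).1 = Q := (mem_normalizer_iff_map_conj Q t).1 htQ
  have := Fintype.ofFinite G
  generalize conjIdx t (⟨Q, f⟩ : Cfsg.BrauerPairIdx G) = a at h4 h5
  obtain ⟨Q', f'⟩ := a
  have h7 : Q' = Q := h5
  subst h7
  rw [subpair_unique hM hPe h4 hle]

end Cfsg.Agent.H641
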