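import Cfsg.Agent.H641.CycAct

/-!
# The quotient `T / C_G(P)` for `P` a cyclic `p`-group and `|T : C_G(P)|` prime to `p` (helper641)
-/

set_option autoImplicit false

namespace Cfsg.Agent.H641

variable {G : Type*} [Group G]

/-- `T` normalizes the cyclic `p`-group `P ≠ 1` and contains `C_G(P)` with index prime to `p`: the
quotient is cyclic of order dividing `p - 1`. -/
theorem isCyclic_quotient_and_dvd [Finite G] {p : ℕ} (hp : p.Prime) {P T : Subgroup G}
    (hP : IsPGroup p P) (hP1 : P ≠ ⊥)
    (hcyc : IsCyclic P) (hT : T ≤ Subgroup.normalizer (P : Set G))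
    (hCT : Subgroup.centralizer (P : Set G) ≤ T)
    (hm : ¬ p ∣ (Subgroup.centralizer (P : Set G)).relIndex T)
    [hn : ((Subgroup.centralizer (P : Set G)).subgroupOf T).Normal] :
    IsCyclic (T ⧸ (Subgroup.centralizer (P : Set G)).subgroupOf T) ∧
      (Subgroup.centralizer (P : Set G)).relIndex T ∣ p - 1 := by
  have : Fact p.Prime := ⟨hp⟩
  -- an element of order `p`
  obtain ⟨z, hz⟩ : ∃ z : P, orderOf z = p := by
    have h1 : Nontrivial P := (Subgroup.nontrivial_iff_ne_bot P).2 hP1
    obtain ⟨n, hn0, hn⟩ := (IsPGroup.nontrivial_iff_card hP).1 h1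
    exact exists_prime_orderOf_dvd_card' p (hn ▸ dvd_pow_self p hn0.ne')
  set Z : Subgroup G := Subgroup.zpowers (z : G) with hZ
  have hzo : orderOf (z : G) = p := by rw [Subgroup.orderOf_coe, hz]
  have hz1 : (z : G) ≠ 1 := fun h => by
    rw [h, orderOf_one] at hzo
    exact hp.one_lt.ne hzo
  have hZcard : Nat.card Z = p := by rw [hZ, Nat.card_zpowers, hzo]
  -- `Z` is the set of elements of `P` of exponent `p`
  have hZP : ∀ y : G, y ∈ Z ↔ y ∈ P ∧ y ^ p = 1 := by
    intro y
    constructor
    · intro hy
      obtain ⟨k, rfl⟩ := Subgroup.mem_zpowers_iff.1 hy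
      refine ⟨Subgroup.zpow_mem _ z.2 k, ?_⟩
      rw [← zpow_natCast, ← zpow_mul, mul_comm, zpow_mul, zpow_natCast, ← hzo,
        pow_orderOf_eq_one, one_zpow]
    · rintro ⟨hy, hy1⟩
      have h1 : (⟨y, hy⟩ : P) ∈ Subgroup.zpowers z := by
        classical
        have := Fintype.ofFinite P
        have h2 := IsCyclic.card_pow_eq_one_le (α := P) hp.pos
        have h3 : (Finset.univ.filter fun a : P => a ^ p = 1) =
            Finset.univ.filter fun a : P => a ∈ Subgroup.zpowers z := by
          symm
          apply Finset.eq_of_subset_of_card_le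
          · intro a ha
            rw [Finset.mem_filter] at ha ⊢
            refine ⟨Finset.mem_univ _, ?_⟩
            obtain ⟨k, rfl⟩ := Subgroup.mem_zpowers_iff.1 ha.2
            rw [← zpow_natCast, ← zpow_mul, mul_comm, zpow_mul, zpow_natCast, ← hz,
              pow_orderOf_eq_one, one_zpow]
          · have h4 : (Finset.univ.filter fun a : P => a ∈ Subgroup.zpowers z).card = p := by
              rw [← Fintype.card_subtype, ← Nat.card_eq_fintype_card]
              exact (Nat.card_zpowers z).trans hz
            rw [h4]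
            exact h2
        have h4 : (⟨y, hy⟩ : P) ∈ Finset.univ.filter fun a : P => a ^ p = 1 := by
          rw [Finset.mem_filter]
          exact ⟨Finset.mem_univ _, Subtype.ext (by simpa using hy1)⟩
        rw [h3] at h4
        exact (Finset.mem_filter.1 h4).2
      obtain ⟨k, hk⟩ := Subgroup.mem_zpowers_iff.1 h1
      exact Subgroup.mem_zpowers_iff.2 ⟨k, by simpa using congrArg Subtype.val hk⟩
  have hTZ : T ≤ Subgroup.normalizer (Z : Set G) := by
    intro t ht
    rw [Subgroup.mem_normalizer_iff]
    intro y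
    rw [hZP, hZP, conj_pow, conj_eq_one_iff]
    exact and_congr_left fun _ => Subgroup.mem_normalizer_iff.1 (hT ht) y
  set f : T →* MulAut Z := Z.normalizerMonoidHom.comp (Subgroup.inclusion hTZ) with hf
  have hker : f.ker = (Subgroup.centralizer (P : Set G)).subgroupOf T := by
    ext t
    rw [hf, MonoidHom.mem_ker, MonoidHom.comp_apply, ← MonoidHom.mem_ker,
      Subgroup.normalizerMonoidHom_ker, Subgroup.mem_subgroupOf, Subgroup.mem_subgroupOf,
      Subgroup.coe_inclusion]
    constructor
    · intro h
      have h1 := (Subgroup.mem_centralizer_iff.1 h) (z : G) (Subgroup.mem_zpowers _)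
      refine mem_centralizer_of_relIndex hp hP hcyc hT hCT hm t.2 z.2 hz1 ?_
      rw [← h1, mul_inv_cancel_right]
    · intro h
      rw [Subgroup.mem_centralizer_iff] at h ⊢
      exact fun y hy => h y ((hZP y).1 hy).1
  have e1 : T ⧸ (Subgroup.centralizer (P : Set G)).subgroupOf T ≃* f.range :=
    (QuotientGroup.quotientMulEquivOfEq hker.symm).trans (QuotientGroup.quotientKerEquivRange f)
  have hZc : IsCyclic Z := by rw [hZ]; infer_instance
  let e2 : MulAut Z ≃* (ZMod (Nat.card Z))ˣ := IsCyclic.mulAutMulEquiv Z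
  rw [hZcard] at e2
  have hcyc2 : IsCyclic (MulAut Z) := isCyclic_of_surjective e2.symm e2.symm.surjective
  have hcyc3 : IsCyclic f.range := inferInstance
  refine ⟨isCyclic_of_surjective e1.symm e1.symm.surjective, ?_⟩
  have h5 : (Subgroup.centralizer (P : Set G)).relIndex T = Nat.card f.range := by
    rw [← Nat.card_congr e1.toEquiv]
    rfl
  rw [h5]
  refine (Subgroup.card_subgroup_dvd_card f.range).trans ?_
  rw [Nat.card_congr e2.toEquiv, Nat.card_eq_fintype_card, ZMod.card_units]

end Cfsg.Agent.H641
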